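import Groth.Agent.TameCharLib.Dvr
import Mathlib.FieldTheory.Galois.Profinite
import Mathlib.FieldTheory.KrullTopology
import Mathlib.RingTheory.RootsOfUnity.AlgebraicallyClosed
import Mathlib.RingTheory.Polynomial.Eisenstein.Basic
import Mathlib.RingTheory.Polynomial.GaussLemma

/-! Homomorphisms of the absolute Galois group of a strictly henselian DVR into `r`-torsion groups. -/

set_option autoImplicit false
set_option linter.style.haveILetI false
universe u v

open IsLocalRing Polynomial Topology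

namespace TameCharLib

variable (R : Type u) [CommRing R] [IsDomain R] [IsDiscreteValuationRing R] [HenselianLocalRing R]
  [IsSepClosed (ResidueField R)] (r : ℕ) [NeZero r]

/-- A strictly henselian ring has all roots of unity of order prime to the residue characteristic. -/
theorem exists_primitive (hr : IsUnit (r : R)) : ∃ z : R, IsPrimitiveRoot z r := by
  have hrk : (r : ResidueField R) ≠ 0 := by
    simpa using (hr.map (residue R)).ne_zero
  haveI : NeZero (r : ResidueField R) := ⟨hrk⟩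
  obtain ⟨z0, hz0⟩ := HasEnoughRootsOfUnity.exists_primitiveRoot (ResidueField R) r
  obtain ⟨a0, rfl⟩ := IsLocalRing.residue_surjective (R := R) z0
  have hu0 : IsUnit a0 := (IsLocalRing.residue_ne_zero_iff_isUnit a0).mp (hz0.ne_zero (NeZero.ne r))
  have h1 : (X ^ r - C (1 : R)).eval a0 ∈ maximalIdeal R := by
    rw [← IsLocalRing.residue_eq_zero_iff]
    simp [hz0.pow_eq_one]
  have h2 : IsUnit ((X ^ r - C (1 : R)).derivative.eval a0) := by
    simp only [derivative_sub, derivative_X_pow, derivative_C, sub_zero, eval_mul, eval_C, eval_pow, eval_X]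
    exact hr.mul (hu0.pow _)
  obtain ⟨z, hz, hzm⟩ := HenselianLocalRing.is_henselian _ (monic_X_pow_sub_C (1 : R) (NeZero.ne r)) a0 h1 h2
  have hzr : z ^ r = 1 := by
    have : (X ^ r - C (1 : R)).eval z = 0 := hz
    simpa [sub_eq_zero] using this
  have hres : residue R z = residue R a0 := Ideal.Quotient.eq.mpr hzm
  refine ⟨z, hzr, fun l hl => ?_⟩
  exact hz0.dvd_of_pow_eq_one l (by rw [← hres, ← map_pow, hl, map_one])

variable (K : Type u) [Field K] [Algebra R K] [IsFractionRing R K] (Ω : Type u) [Field Ω] [Algebra K Ω]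
  [IsSepClosure K Ω]

variable {R r K Ω}

theorem factors (hr : IsUnit (r : ResidueField R)) (ϖ : R) (hϖ : Irreducible ϖ) (ρ : Ω)
    (hρ : ρ ^ r = algebraMap K Ω (algebraMap R K ϖ))
    (M : Type v) [AddCommGroup M] (hM : ∀ x : M, r • x = 0)
    (φ : (Ω ≃ₐ[K] Ω) → M) (hφ : ∀ σ τ : Ω ≃ₐ[K] Ω, φ (σ * τ) = φ σ + φ τ) :
    ∃! u : ↥(rootsOfUnity r Ω) → M, (∀ ζ ξ : ↥(rootsOfUnity r Ω), u (ζ * ξ) = u ζ + u ξ) ∧
      ∀ (σ : Ω ≃ₐ[K] Ω) (ζ : ↥(rootsOfUnity r Ω)), ((ζ : Ωˣ) : Ω) * ρ = σ ρ → φ σ = u ζ := by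
  have hrR : IsUnit (r : R) := by
    rw [← IsLocalRing.residue_ne_zero_iff_isUnit, map_natCast]
    exact hr.ne_zero
  haveI : IsGalois K Ω := inferInstance
  obtain ⟨z, hz⟩ := exists_primitive R r hrR
  have hinj : Function.Injective ((algebraMap K Ω).comp (algebraMap R K)) :=
    (algebraMap K Ω).injective.comp (IsFractionRing.injective R K)
  set zΩ : Ω := algebraMap K Ω (algebraMap R K z) with hzΩdef
  have hzΩ : IsPrimitiveRoot zΩ r := hz.map_of_injective (f := (algebraMap K Ω).comp (algebraMap R K)) hinj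
  have hρ0 : ρ ≠ 0 := by
    intro h
    rw [h, zero_pow (NeZero.ne r)] at hρ
    exact hϖ.ne_zero (hinj (by simpa using hρ.symm))
  have hfix : ∀ (σ : Ω ≃ₐ[K] Ω) (x : Ω), x ^ r = 1 → σ x = x := by
    intro σ x hx
    obtain ⟨i, -, rfl⟩ := hzΩ.eq_pow_of_pow_eq_one hx
    rw [map_pow, hzΩdef, σ.commutes]
  have hχr : ∀ σ : Ω ≃ₐ[K] Ω, (σ ρ / ρ) ^ r = 1 := fun σ => by
    rw [div_pow, ← map_pow, hρ, σ.commutes, div_self]
    rw [← hρ]
    exact pow_ne_zero r hρ0
  -- the fundamental character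
  let χ : (Ω ≃ₐ[K] Ω) →* Ω :=
    { toFun := fun σ => σ ρ / ρ
      map_one' := by simp [hρ0]
      map_mul' := fun σ τ => by
        have h1 : τ ρ = (τ ρ / ρ) * ρ := by rw [div_mul_cancel₀ _ hρ0]
        show (σ * τ) ρ / ρ = _
        rw [AlgEquiv.mul_apply, h1, map_mul, hfix σ _ (hχr τ)]
        field_simp }
  have hχapp : ∀ σ, χ σ = σ ρ / ρ := fun σ => rfl
  -- surjectivity
  have hirr : Irreducible (X ^ r - C (algebraMap R K ϖ)) := by
    have hirrR : Irreducible (X ^ r - C ϖ : R[X]) := by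
      have hP : (Ideal.span {ϖ}).IsPrime :=
        (Ideal.span_singleton_prime hϖ.ne_zero).mpr hϖ.prime
      refine Polynomial.irreducible_of_eisenstein_criterion hP ?_ ?_ ?_ ?_ ?_
      · rw [(monic_X_pow_sub_C ϖ (NeZero.ne r)).leadingCoeff]
        exact fun h => hP.ne_top ((Ideal.eq_top_iff_one _).mpr h)
      · intro n hn
        rw [degree_X_pow_sub_C (NeZero.pos r)] at hn
        have hn' : n < r := by exact_mod_cast hn
        rw [coeff_sub, coeff_X_pow, if_neg hn'.ne, coeff_C]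
        split <;> simp [Ideal.mem_span_singleton]
      · rw [degree_X_pow_sub_C (NeZero.pos r)]
        exact_mod_cast NeZero.pos r
      · rw [coeff_sub, coeff_X_pow, if_neg (NeZero.ne r).symm, coeff_C_zero, zero_sub, neg_mem_iff,
          Ideal.span_singleton_pow, Ideal.mem_span_singleton]
        intro h
        obtain ⟨c, hc⟩ := h
        exact hϖ.not_isUnit (IsUnit.of_mul_eq_one c (mul_left_cancel₀ hϖ.ne_zero
          (by rw [← mul_assoc, ← pow_two, ← hc, mul_one])))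
      · exact (monic_X_pow_sub_C ϖ (NeZero.ne r)).isPrimitive
    have := ((monic_X_pow_sub_C ϖ (NeZero.ne r)).irreducible_iff_irreducible_map_fraction_map (K := K)).mp hirrR
    simpa using this
  have hmin : minpoly K ρ = X ^ r - C (algebraMap R K ϖ) :=
    (minpoly.eq_of_irreducible_of_monic hirr (by simp [hρ]) (monic_X_pow_sub_C _ (NeZero.ne r))).symm
  have hsurj : ∀ x : Ω, x ^ r = 1 → ∃ σ, χ σ = x := by
    intro x hx
    have halg : IsAlgebraic K ρ := (Algebra.IsAlgebraic.isAlgebraic ρ)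
    obtain ⟨σ, hσ⟩ := minpoly.exists_algEquiv_of_root' (L := Ω) (x := x * ρ) halg
      (by rw [hmin]; simp [mul_pow, hx, hρ])
    refine ⟨σ, ?_⟩
    rw [hχapp, hσ, mul_div_assoc, div_self hρ0, mul_one]
  -- closed set of products of two powers
  let S : Set (Ω ≃ₐ[K] Ω) := Set.range fun p : (Ω ≃ₐ[K] Ω) × (Ω ≃ₐ[K] Ω) => p.1 ^ r * p.2 ^ r
  haveI : T2Space (Ω ≃ₐ[K] Ω) := krullTopology_t2
  have hS : IsClosed S := (isCompact_range (by fun_prop)).isClosed
  have hkerS : ∀ σ, χ σ = 1 → σ ∈ S := by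
    intro σ hσ
    rw [← hS.closure_eq, mem_closure_iff_nhds]
    intro t ht
    have ht' : (fun y => σ * y) ⁻¹' t ∈ 𝓝 (1 : Ω ≃ₐ[K] Ω) :=
      (continuous_const_mul σ).continuousAt.preimage_mem_nhds (by simpa using ht)
    obtain ⟨E, hEfin, hE⟩ := (krullTopology_mem_nhds_one_iff K Ω _).mp ht'
    haveI := hEfin
    haveI : FiniteDimensional K (IntermediateField.adjoin K ({ρ} : Set Ω)) :=
      IntermediateField.adjoin.finiteDimensional (Algebra.IsIntegral.isIntegral ρ)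
    let E' := IntermediateField.normalClosure K ↥(E ⊔ IntermediateField.adjoin K ({ρ} : Set Ω)) Ω
    haveI : Algebra.IsSeparable K E' := Algebra.isSeparable_tower_bot_of_isSeparable K E' Ω
    have hle : E ⊔ IntermediateField.adjoin K ({ρ} : Set Ω) ≤ E' := IntermediateField.le_normalClosure _
    have hρE : ρ ∈ E' := hle ((le_sup_right (a := E)) (IntermediateField.mem_adjoin_simple_self K ρ))
    obtain ⟨g, hg⟩ := exists_gen_galois R K E' r hrR
    let π : (Ω ≃ₐ[K] Ω) →* (E' ≃ₐ[K] E') := AlgEquiv.restrictNormalHom E'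
    have hπ : ∀ (τ : Ω ≃ₐ[K] Ω) (x : E'), ((π τ x : E') : Ω) = τ (x : Ω) := fun τ x =>
      AlgEquiv.restrictNormal_commutes τ E' x
    have hχπ : ∀ τ τ', π τ = π τ' → χ τ = χ τ' := by
      intro τ τ' h
      rw [hχapp, hχapp, ← hπ τ ⟨ρ, hρE⟩, h, hπ τ']
    obtain ⟨g', hg'⟩ := AlgEquiv.restrictNormalHom_surjective Ω g
    have hdec : ∀ τ, ∃ (k : ℕ) (w : Ω ≃ₐ[K] Ω), π τ = π (g' ^ k * w ^ r) ∧ χ τ = χ g' ^ k := by
      intro τ
      obtain ⟨k, w, hkw⟩ := hg (π τ)
      obtain ⟨w', hw'⟩ := AlgEquiv.restrictNormalHom_surjective Ω w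
      have h1 : π τ = π (g' ^ k * w' ^ r) := by rw [hkw, map_mul, map_pow, map_pow, ← hg', ← hw']
      refine ⟨k, w', h1, ?_⟩
      rw [hχπ _ _ h1, map_mul, map_pow, map_pow, show χ w' ^ r = 1 from hχr w', mul_one]
    obtain ⟨τ, hτ⟩ := hsurj zΩ hzΩ.pow_eq_one
    obtain ⟨m, -, -, hm⟩ := hdec τ
    rw [hτ] at hm
    obtain ⟨k, w, hkw, hk⟩ := hdec σ
    rw [hσ] at hk
    have hrk : r ∣ k := hzΩ.dvd_of_pow_eq_one k (by rw [hm, ← pow_mul, mul_comm, pow_mul, ← hk, one_pow])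
    obtain ⟨j, rfl⟩ := hrk
    refine ⟨(g' ^ j) ^ r * w ^ r, ?_, ⟨(g' ^ j, w), rfl⟩⟩
    have hfixg : σ⁻¹ * ((g' ^ j) ^ r * w ^ r) ∈ E.fixingSubgroup := by
      rw [IntermediateField.mem_fixingSubgroup_iff]
      intro x hx
      have hxE' : x ∈ E' := hle ((le_sup_left (a := E)) hx)
      have h1 : π (σ⁻¹ * ((g' ^ j) ^ r * w ^ r)) = 1 := by
        rw [← pow_mul, mul_comm j r, map_mul, map_inv, hkw, inv_mul_cancel]
      have := hπ (σ⁻¹ * ((g' ^ j) ^ r * w ^ r)) ⟨x, hxE'⟩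
      rw [h1] at this
      exact this.symm
    have := hE hfixg
    simpa using this
  have hφpow : ∀ (y : Ω ≃ₐ[K] Ω) (n : ℕ), φ (y ^ n) = n • φ y := by
    intro y n
    induction n with
    | zero =>
      have := hφ 1 1
      rw [one_mul] at this
      simpa using this
    | succ n ih => rw [pow_succ, hφ, ih, succ_nsmul]
  have hker : ∀ σ, χ σ = 1 → φ σ = 0 := by
    intro σ hσ
    obtain ⟨⟨y, w⟩, rfl⟩ := hkerS σ hσ
    show φ (y ^ r * w ^ r) = 0
    rw [hφ, hφpow, hφpow, hM, hM, add_zero]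
  have hwd : ∀ σ τ, χ σ = χ τ → φ σ = φ τ := by
    intro σ τ h
    have h1 : χ (τ⁻¹ * σ) = 1 := by rw [map_mul, h, ← map_mul, inv_mul_cancel, map_one]
    have h2 := hφ τ (τ⁻¹ * σ)
    rw [mul_inv_cancel_left, hker _ h1, add_zero] at h2
    exact h2
  have hsu : ∀ ζ : ↥(rootsOfUnity r Ω), ∃ σ, χ σ = ((ζ : Ωˣ) : Ω) := fun ζ =>
    hsurj _ (by
      have := (mem_rootsOfUnity r (ζ : Ωˣ)).mp ζ.2
      rw [← Units.val_pow_eq_pow_val, this, Units.val_one])
  choose s hs using hsu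
  have hiff : ∀ (σ : Ω ≃ₐ[K] Ω) (x : Ω), x * ρ = σ ρ ↔ χ σ = x := fun σ x => by
    rw [hχapp, div_eq_iff hρ0, eq_comm]
  refine ⟨fun ζ => φ (s ζ), ⟨fun ζ ξ => ?_, fun σ ζ h => ?_⟩, ?_⟩
  · show φ (s (ζ * ξ)) = φ (s ζ) + φ (s ξ)
    rw [← hφ]
    apply hwd
    rw [map_mul, hs, hs, hs]
    simp
  · exact hwd σ (s ζ) (by rw [hs, (hiff σ _).mp h])
  · rintro u' ⟨-, h2⟩
    funext ζ
    exact (h2 (s ζ) ζ ((hiff _ _).mpr (hs ζ))).symm

end TameCharLib
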