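import Groth.Agent.HensFormalLib.Basic
import Mathlib.RingTheory.DiscreteValuationRing.Basic
import Mathlib.RingTheory.DedekindDomain.IntegralClosure
import Mathlib.RingTheory.IntegralClosure.IntegralRestrict
import Mathlib.FieldTheory.PurelyInseparable.Basic
import Mathlib.RingTheory.Filtration

/-! Finite automorphism groups of strictly henselian discrete valuation rings: tame part is cyclic. -/

set_option autoImplicit false
set_option linter.style.haveILetI false
universe u w

open IsLocalRing

namespace TameCharLib

variable {B : Type u} [CommRing B] [IsDomain B] [IsDiscreteValuationRing B]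

/-- An automorphism of finite order invertible in the residue field, trivial on the graded ring, is trivial. -/
theorem eq_id_of_pow_eq_id (σ : B ≃+* B) (π : B) (hπ : Irreducible π)
    (hres : ∀ b, σ b - b ∈ maximalIdeal B) (hu : σ π - π ∈ maximalIdeal B ^ 2)
    (q : ℕ) (hq : IsUnit (q : B)) (hσ : σ ^ q = 1) (b : B) : σ b = b := by
  have hm : maximalIdeal B = Ideal.span {π} :=
    (IsDiscreteValuationRing.irreducible_iff_uniformizer π).mp hπ
  have key : ∀ i : ℕ, ∀ b, σ b - b ∈ maximalIdeal B ^ (i + 1) := by
    intro i
    induction i with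
    | zero => intro b; simpa using hres b
    | succ i ih =>
      have hpres : ∀ {n : ℕ} {x : B}, x ∈ maximalIdeal B ^ n → σ x - x ∈ maximalIdeal B ^ (n + 1) := by
        intro n x hx
        rw [hm, Ideal.span_singleton_pow, Ideal.mem_span_singleton] at hx ⊢
        obtain ⟨a, rfl⟩ := hx
        have h1 : π ∣ σ a - a := by
          rw [← Ideal.mem_span_singleton, ← hm]; exact hres a
        have h2 : π ^ 2 ∣ σ π - π := by
          rw [← Ideal.mem_span_singleton, ← Ideal.span_singleton_pow, ← hm]; exact hu
        obtain ⟨s, hs⟩ := h2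
        obtain ⟨t, ht⟩ := h1
        have hs' : σ π = π * (1 + π * s) := by linear_combination hs
        have ht' : σ a = a + π * t := by linear_combination ht
        obtain ⟨e, he⟩ := sub_one_dvd_pow_sub_one (1 + π * s) n
        rw [map_mul, map_pow, hs', ht', mul_pow]
        refine ⟨s * e * a + (1 + π * s) ^ n * t, ?_⟩
        have he' : (1 + π * s) ^ n = 1 + π * s * e := by linear_combination he
        rw [he']
        ring
      intro b
      set d := σ b - b with hd
      have hdm : d ∈ maximalIdeal B ^ (i + 1) := ih b
      have hn : ∀ n : ℕ, (σ ^ n) b - b - (n : B) * d ∈ maximalIdeal B ^ (i + 1 + 1) := by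
        intro n
        induction n with
        | zero => simp
        | succ n ihn =>
          have h1 : σ ((σ ^ n) b - b - (n : B) * d) ∈ maximalIdeal B ^ (i + 1 + 1) := by
            have := hpres ihn
            have h2 := Ideal.pow_le_pow_right (Nat.le_succ (i + 1 + 1)) this
            simpa using Ideal.add_mem _ h2 ihn
          have h3 := Ideal.mul_mem_left _ (n : B) (hpres hdm)
          have h4 := Ideal.add_mem _ h1 h3
          convert h4 using 1
          rw [pow_succ', RingAut.mul_apply]
          simp only [map_sub, map_mul, map_natCast, hd]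
          push_cast
          ring
      have := hn q
      rw [hσ] at this
      simp only [RingAut.one_apply, sub_self, zero_sub, neg_mem_iff] at this
      exact (Ideal.unit_mul_mem_iff_mem _ hq).mp this
  have hb : σ b - b ∈ ⨅ n : ℕ, maximalIdeal B ^ n := by
    rw [Submodule.mem_iInf]
    intro n
    exact Ideal.pow_le_pow_right (Nat.le_succ n) (key n b)
  rw [Ideal.iInf_pow_eq_bot_of_isDomain _ (maximalIdeal.isMaximal B).ne_top] at hb
  exact sub_eq_zero.mp (by simpa using hb)

/-- A finite group of automorphisms of a discrete valuation ring which is trivial on the residue field is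
generated by one element and the `r`-th powers, when `r` is prime to the residue characteristic. -/
theorem exists_gen {G : Type w} [Group G] [Finite G] (f : G →* (B ≃+* B)) (hf : Function.Injective f)
    (hres : ∀ g b, f g b - b ∈ maximalIdeal B) (r : ℕ) (hr : IsUnit (r : B)) :
    ∃ g : G, ∀ σ : G, ∃ (k : ℕ) (w : G), σ = g ^ k * w ^ r := by
  obtain ⟨π, hπ⟩ := IsDiscreteValuationRing.exists_irreducible B
  have hm : maximalIdeal B = Ideal.span {π} :=
    (IsDiscreteValuationRing.irreducible_iff_uniformizer π).mp hπ
  have hass : ∀ g : G, ∃ u : Bˣ, f g π = u * π := fun g => by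
    obtain ⟨u, hu⟩ := IsDiscreteValuationRing.associated_of_irreducible B hπ
      ((MulEquiv.irreducible_iff (f g)).mpr hπ)
    exact ⟨u, by rw [← hu, mul_comm]⟩
  choose u hu using hass
  let θ : G →* ResidueField B := MonoidHom.mk ⟨fun g => residue B (u g : B), by
      have h1 : f 1 π = 1 * π := by rw [map_one, one_mul]; rfl
      rw [hu] at h1
      simp [mul_right_cancel₀ hπ.ne_zero h1]⟩ (by
    intro g g'
    have h1 : (u (g * g') : B) * π = f g (u g' : B) * (u g : B) * π := by
      rw [← hu, map_mul, RingAut.mul_apply, hu, map_mul, hu]; ring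
    have h2 := mul_right_cancel₀ hπ.ne_zero h1
    have h3 : residue B (f g (u g' : B)) = residue B (u g' : B) :=
      Ideal.Quotient.eq.mpr (hres g _)
    show residue B (u (g * g') : B) = residue B (u g : B) * residue B (u g' : B)
    rw [h2, map_mul, h3, mul_comm])
  haveI : Finite θ.toHomUnits.range := Set.finite_range θ.toHomUnits |>.to_subtype
  obtain ⟨⟨_, g, rfl⟩, hg⟩ := IsCyclic.exists_monoid_generator (α := θ.toHomUnits.range)
  refine ⟨g, fun σ => ?_⟩
  obtain ⟨k, hk⟩ := Submonoid.mem_powers_iff _ _ |>.mp (hg ⟨θ.toHomUnits σ, σ, rfl⟩)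
  have hk' : θ.toHomUnits g ^ k = θ.toHomUnits σ := congrArg Subtype.val hk
  set w := (g ^ k)⁻¹ * σ with hw
  have hθw : θ.toHomUnits w = 1 := by
    rw [hw, map_mul, map_inv, map_pow, hk', inv_mul_cancel]
  have htriv : ∀ v : G, θ v = 1 → ∀ q : ℕ, IsUnit (q : B) → v ^ q = 1 → v = 1 := by
    intro v hv q hq hvq
    apply hf
    rw [map_one]
    refine RingEquiv.ext fun b => eq_id_of_pow_eq_id (f v) π hπ (hres v) ?_ q hq ?_ b
    · have h1 : (u v : B) - 1 ∈ maximalIdeal B :=
        Ideal.Quotient.eq.mp (show residue B (u v : B) = residue B 1 by rw [map_one]; exact hv)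
      rw [hu, pow_two, ← sub_one_mul]
      exact Ideal.mul_mem_mul h1 (hm ▸ Ideal.mem_span_singleton_self π)
    · rw [← map_pow, hvq, map_one]
  have hker : ∀ v : G, θ.toHomUnits v = 1 → θ v = 1 := fun v hv => by
    rw [← MonoidHom.coe_toHomUnits θ v, hv, Units.val_one]
  have hcop : r.Coprime (orderOf w) := by
    rw [Nat.coprime_iff_gcd_eq_one]
    by_contra hne
    obtain ⟨q, hqp, hqd⟩ := Nat.exists_prime_and_dvd hne
    have hqr : IsUnit (q : B) := isUnit_of_dvd_unit
      (Nat.cast_dvd_cast (α := B) (hqd.trans (Nat.gcd_dvd_left _ _))) hr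
    have hqo : q ∣ orderOf w := hqd.trans (Nat.gcd_dvd_right _ _)
    set v := w ^ (orderOf w / q)
    have hvo : orderOf v = q := orderOf_pow_orderOf_div (orderOf_pos w).ne' hqo
    have hv1 : θ.toHomUnits v = 1 := by rw [map_pow, hθw, one_pow]
    have := htriv v (hker v hv1) q hqr (by rw [← hvo]; exact pow_orderOf_eq_one v)
    rw [this, orderOf_one] at hvo
    exact hqp.one_lt.ne hvo
  obtain ⟨m, hm'⟩ := exists_pow_eq_self_of_coprime hcop
  refine ⟨k, w ^ m, ?_⟩
  rw [← pow_mul, mul_comm m r, pow_mul, hm', hw, mul_inv_cancel_left]

/-- Galois groups over a strictly henselian discrete valuation ring. -/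
theorem exists_gen_galois (R K L : Type u) [CommRing R] [IsDomain R] [IsDiscreteValuationRing R]
    [HenselianLocalRing R] [IsSepClosed (ResidueField R)] [Field K] [Algebra R K] [IsFractionRing R K]
    [Field L] [Algebra K L] [FiniteDimensional K L] [Algebra.IsSeparable K L]
    (r : ℕ) (hr : IsUnit (r : R)) :
    ∃ g : L ≃ₐ[K] L, ∀ σ : L ≃ₐ[K] L, ∃ (k : ℕ) (w : L ≃ₐ[K] L), σ = g ^ k * w ^ r := by
  letI : Algebra R L := ((algebraMap K L).comp (algebraMap R K)).toAlgebra
  haveI : IsScalarTower R K L := IsScalarTower.of_algebraMap_eq' rfl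
  have hinjL : Function.Injective (algebraMap R L) :=
    (algebraMap K L).injective.comp (IsFractionRing.injective R K)
  let B := integralClosure R L
  haveI : IsIntegralClosure B R L := inferInstance
  haveI : IsDedekindDomain B := integralClosure.isDedekindDomain R K L
  haveI : Algebra.IsIntegral R B := inferInstance
  haveI : IsLocalRing B := HensFormalLib.isLocalRing_of_integral_domain R B
  have hinjB : Function.Injective (algebraMap R B) := fun a b h =>
    hinjL (by simpa using congrArg Subtype.val h)
  haveI : IsLocalHom (algebraMap R B) := RingHom.IsIntegral.isLocalHom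
    (fun x => Algebra.IsIntegral.isIntegral x) hinjB
  have hnf : ¬ IsField B := fun h =>
    IsDiscreteValuationRing.not_isField R (isField_of_isIntegral_of_isField hinjB h)
  haveI : IsNoetherianRing B := inferInstance
  haveI : IsDiscreteValuationRing B := ((IsDiscreteValuationRing.TFAE B hnf).out 0 2).mpr ‹IsDedekindDomain B›
  haveI : Algebra.IsIntegral (ResidueField R) (ResidueField B) := ⟨fun x => by
    obtain ⟨b, rfl⟩ := IsLocalRing.residue_surjective (R := B) x
    exact ((Algebra.IsIntegral.isIntegral (R := R) b).map
      (IsScalarTower.toAlgHom R B (ResidueField B))).tower_top⟩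
  let F : (L ≃ₐ[K] L) →* (B ≃+* B) :=
    { toFun := fun σ => (galRestrict R K L B σ).toRingEquiv
      map_one' := by rw [map_one]; rfl
      map_mul' := fun a b => by rw [map_mul]; rfl }
  have hF : Function.Injective F := by
    intro a b h
    apply (galRestrict R K L B).injective
    exact AlgEquiv.ext fun x => RingEquiv.congr_fun h x
  have hres : ∀ σ b, F σ b - b ∈ maximalIdeal B := by
    intro σ b
    let e : B →+* B := (F σ).toRingHom
    haveI : IsLocalHom e := ⟨fun a ha => by
      have : IsUnit ((F σ).symm (F σ a)) := ha.map (F σ).symm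
      simpa using this⟩
    have hc : (ResidueField.map e).comp (algebraMap (ResidueField R) (ResidueField B)) =
        (RingHom.id _).comp (algebraMap (ResidueField R) (ResidueField B)) := by
      apply RingHom.ext
      intro x
      obtain ⟨a, rfl⟩ := IsLocalRing.residue_surjective (R := R) x
      show ResidueField.map e (residue B (algebraMap R B a)) = residue B (algebraMap R B a)
      rw [ResidueField.map_residue]
      congr 1
      exact (galRestrict R K L B σ).commutes a
    have := IsPurelyInseparable.injective_comp_algebraMap (ResidueField R) (ResidueField B) (ResidueField B) hc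
    have h2 : residue B (F σ b) = residue B b := by
      have := RingHom.congr_fun this (residue B b)
      rw [ResidueField.map_residue] at this
      exact this
    exact Ideal.Quotient.eq.mp h2
  exact exists_gen F hF hres r (by simpa using hr.map (algebraMap R B))

end TameCharLib
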